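import Mathlib

set_option autoImplicit false
set_option linter.unusedSectionVars false

/-!
Orbits of `GL(W)` on the quadratic forms of a vector space `W` over a finite field of
characteristic two: basic definitions and the "shear family" of a form along a vector `e`.
-/

namespace Cfsg.Agent.Lib.Helper6.QFOrb

open Module QuadraticMap

variable {F : Type*} [Field F] {W : Type*} [AddCommGroup W] [Module F W]

/-- the `GL(W)`-orbit of a quadratic form -/
def orb (f : QuadraticForm F W) : Set (QuadraticForm F W) :=
  {f' | ∃ g : W ≃ₗ[F] W, f' = f.comp (g : W →ₗ[F] W)}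

theorem mem_orb_self (f : QuadraticForm F W) : f ∈ orb f :=
  ⟨LinearEquiv.refl F W, by ext x; simp⟩

theorem comp_mem_orb {f f' : QuadraticForm F W} (h : f' ∈ orb f) (g : W ≃ₗ[F] W) :
    f'.comp (g : W →ₗ[F] W) ∈ orb f := by
  obtain ⟨g0, rfl⟩ := h
  refine ⟨g.trans g0, ?_⟩
  ext x
  simp

theorem orb_eq_of_mem {f f' : QuadraticForm F W} (h : f' ∈ orb f) : orb f' = orb f := by
  obtain ⟨g0, rfl⟩ := h
  ext f''
  constructor
  · rintro ⟨g, rfl⟩
    refine ⟨g.trans g0, ?_⟩
    ext x
    simp
  · rintro ⟨g, rfl⟩
    refine ⟨g.trans g0.symm, ?_⟩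
    ext x
    simp

theorem polar_comp (f : QuadraticForm F W) (g : W →ₗ[F] W) (x y : W) :
    polar (f.comp g) x y = polar f (g x) (g y) := by
  simp [polar, QuadraticMap.comp_apply]

section char2
variable [CharP F 2]

theorem two_eq_zero' : (2 : F) = 0 := by
  have := CharP.cast_eq_zero F 2
  exact_mod_cast this

theorem add_self' (a : F) : a + a = 0 := by
  have : a + a = 2 * a := by ring
  rw [this, two_eq_zero', zero_mul]

theorem neg_eq' (a : F) : -a = a := neg_eq_of_add_eq_zero_left (add_self' a)

theorem sub_eq_add' (a b : F) : a - b = a + b := by rw [sub_eq_add_neg, neg_eq']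

theorem polar_self' (f : QuadraticForm F W) (x : W) : polar f x x = 0 := by
  rw [QuadraticMap.polar_self, two_smul]
  exact add_self' _

theorem map_add' (f : QuadraticForm F W) (x y : W) : f (x + y) = f x + f y + polar f x y := by
  unfold polar
  ring

/-- the shear `x ↦ x + σ x • e` along `e`, for a functional with `σ e = 0` -/
noncomputable def shear {e : W} (σ : Dual F W) (hσ : σ e = 0) : W ≃ₗ[F] W :=
  LinearEquiv.transvection hσ

theorem shear_apply {e : W} (σ : Dual F W) (hσ : σ e = 0) (x : W) :
    shear σ hσ x = x + σ x • e := by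
  unfold shear
  rw [LinearEquiv.transvection.apply]

theorem comp_shear_apply (f : QuadraticForm F W) {e : W} (σ : Dual F W) (hσ : σ e = 0) (x : W) :
    f.comp (shear σ hσ : W →ₗ[F] W) x = f x + σ x * polar f x e + σ x * σ x * f e := by
  rw [QuadraticMap.comp_apply, LinearEquiv.coe_coe, shear_apply, map_add', QuadraticMap.map_smul,
    QuadraticMap.polar_smul_right, smul_eq_mul, smul_eq_mul]
  ring

theorem comp_shear_self (f : QuadraticForm F W) {e : W} (σ : Dual F W) (hσ : σ e = 0) :
    f.comp (shear σ hσ : W →ₗ[F] W) e = f e := by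
  rw [comp_shear_apply, hσ]
  ring

theorem polar_comp_shear (f : QuadraticForm F W) {e : W} (σ : Dual F W) (hσ : σ e = 0) (x : W) :
    polar (f.comp (shear σ hσ : W →ₗ[F] W)) x e = polar f x e := by
  rw [polar_comp, LinearEquiv.coe_coe, shear_apply, shear_apply, hσ, zero_smul, add_zero,
    QuadraticMap.polar_add_left, QuadraticMap.polar_smul_left, polar_self', smul_zero, add_zero]

/-- a product of two linear functionals vanishing identically: one of them is zero -/
theorem dual_mul_eq_zero {L1 L2 : Dual F W} (h : ∀ x, L1 x * L2 x = 0) : L1 = 0 ∨ L2 = 0 := by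
  by_contra hcon
  push Not at hcon
  obtain ⟨h1, h2⟩ := hcon
  obtain ⟨x0, hx0⟩ : ∃ x, L1 x ≠ 0 := by
    by_contra hc
    push Not at hc
    exact h1 (LinearMap.ext hc)
  obtain ⟨y0, hy0⟩ : ∃ y, L2 y ≠ 0 := by
    by_contra hc
    push Not at hc
    exact h2 (LinearMap.ext hc)
  have hx2 : L2 x0 = 0 := by
    rcases mul_eq_zero.1 (h x0) with h' | h'
    · exact absurd h' hx0
    · exact h'
  have hy1 : L1 y0 = 0 := by
    rcases mul_eq_zero.1 (h y0) with h' | h'
    · exact h'
    · exact absurd h' hy0
  have := h (x0 + y0)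
  rw [map_add, map_add, hx2, hy1, add_zero, zero_add] at this
  rcases mul_eq_zero.1 this with h' | h'
  · exact hx0 h'
  · exact hy0 h'

/-- two shears of a form along `e` (not in the radical) agree only if the functionals agree or
differ by `polar f · e / f e` -/
theorem comp_shear_eq_iff (f : QuadraticForm F W) {e : W} (a : Dual F W)
    (ha : ∀ x, polar f x e = a x) (ha0 : a ≠ 0)
    (σ σ' : Dual F W) (hσ : σ e = 0) (hσ' : σ' e = 0)
    (h : f.comp (shear σ hσ : W →ₗ[F] W) = f.comp (shear σ' hσ' : W →ₗ[F] W)) :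
    σ' = σ ∨ (f e ≠ 0 ∧ σ' = σ + (f e)⁻¹ • a) := by
  have key : ∀ x, (σ' - σ) x * ((a + f e • (σ' - σ)) x) = 0 := by
    intro x
    have h1 := congrArg (fun q : QuadraticForm F W => q x) h
    simp only [comp_shear_apply, ha] at h1
    simp only [LinearMap.sub_apply, LinearMap.add_apply, LinearMap.smul_apply, smul_eq_mul,
      sub_eq_add']
    have e1 : (σ' x + σ x) * (a x + f e * (σ' x + σ x)) =
        (σ x * a x + σ x * σ x * f e) + (σ' x * a x + σ' x * σ' x * f e) +
          f e * (σ x * σ' x + σ x * σ' x) := by ring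
    rw [e1, add_self', mul_zero, add_zero]
    have h2 : σ x * a x + σ x * σ x * f e = σ' x * a x + σ' x * σ' x * f e := by
      have := h1
      linear_combination this
    rw [h2, add_self']
  rcases dual_mul_eq_zero key with h1 | h1
  · left
    exact sub_eq_zero.1 h1
  · right
    have hc : f e ≠ 0 := by
      intro hc
      rw [hc, zero_smul, add_zero] at h1
      exact ha0 h1
    refine ⟨hc, ?_⟩
    have h2 : f e • (σ' - σ) = a := by
      have := eq_neg_of_add_eq_zero_right h1
      rw [this]
      ext x
      simp only [LinearMap.neg_apply]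
      exact neg_eq' _
    rw [← h2, smul_smul, inv_mul_cancel₀ hc, one_smul]
    abel

end char2

end Cfsg.Agent.Lib.Helper6.QFOrb
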