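import Mathlib
import Cfsg.Agent.Lib.Helper6.QFOrb.Basic

set_option autoImplicit false
set_option linter.unusedSectionVars false

/-!
Orbits of quadratic forms in characteristic two: existence of base forms with prescribed
invariants `(f' e, polar f' · e)`, and of zeros.
-/

namespace Cfsg.Agent.Lib.Helper6.QFOrb

open Module QuadraticMap

variable {F : Type*} [Field F] {W : Type*} [AddCommGroup W] [Module F W]

/-- `GL(W)` is transitive on nonzero vectors -/
theorem exists_equiv_apply_eq [FiniteDimensional F W] {x y : W} (hx : x ≠ 0) (hy : y ≠ 0) :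
    ∃ g : W ≃ₗ[F] W, g x = y := by
  let f : ↥(Submodule.span F {x}) ≃ₗ[F] ↥(Submodule.span F {y}) :=
    (LinearEquiv.toSpanNonzeroSingleton F W x hx).symm.trans
      (LinearEquiv.toSpanNonzeroSingleton F W y hy)
  obtain ⟨g, hg⟩ := Submodule.exists_linearEquiv_restrict_eq f
  refine ⟨g, ?_⟩
  have hxm : x ∈ Submodule.span F {x} := Submodule.mem_span_singleton_self x
  have := hg ⟨x, hxm⟩
  rw [← this]
  have h1 : (LinearEquiv.toSpanNonzeroSingleton F W x hx).symm ⟨x, hxm⟩ = 1 := by
    rw [LinearEquiv.symm_apply_eq]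
    apply Subtype.ext
    simp [LinearEquiv.toSpanNonzeroSingleton]
  show ((LinearEquiv.toSpanNonzeroSingleton F W y hy)
    ((LinearEquiv.toSpanNonzeroSingleton F W x hx).symm ⟨x, hxm⟩) : W) = y
  rw [h1]
  simp [LinearEquiv.toSpanNonzeroSingleton]

/-- `GL(W)` is transitive on the pairs (nonzero vector, nonzero functional vanishing on it) -/
theorem exists_equiv_flag [FiniteDimensional F W] {e u : W} {a φ : Dual F W} (he : e ≠ 0)
    (hu : u ≠ 0) (ha : a ≠ 0) (hφ : φ ≠ 0) (hae : a e = 0) (hφu : φ u = 0) :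
    ∃ g : W ≃ₗ[F] W, g e = u ∧ ∀ x, φ (g x) = a x := by
  -- vectors with value one
  obtain ⟨e', he'⟩ : ∃ e', a e' = 1 := by
    obtain ⟨x, hx⟩ : ∃ x, a x ≠ 0 := by
      by_contra hc
      push Not at hc
      exact ha (LinearMap.ext hc)
    exact ⟨(a x)⁻¹ • x, by rw [map_smul, smul_eq_mul, inv_mul_cancel₀ hx]⟩
  obtain ⟨u', hu'⟩ : ∃ u', φ u' = 1 := by
    obtain ⟨x, hx⟩ : ∃ x, φ x ≠ 0 := by
      by_contra hc
      push Not at hc
      exact hφ (LinearMap.ext hc)
    exact ⟨(φ x)⁻¹ • x, by rw [map_smul, smul_eq_mul, inv_mul_cancel₀ hx]⟩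
  -- the kernels have the same dimension
  have hfr : finrank F (LinearMap.ker a) = finrank F (LinearMap.ker φ) := by
    have h1 := LinearMap.finrank_range_add_finrank_ker a
    have h2 := LinearMap.finrank_range_add_finrank_ker φ
    have r1 : LinearMap.range a = ⊤ := LinearMap.range_eq_top.2 (by
      intro c
      exact ⟨c • e', by rw [map_smul, he', smul_eq_mul, mul_one]⟩)
    have r2 : LinearMap.range φ = ⊤ := LinearMap.range_eq_top.2 (by
      intro c
      exact ⟨c • u', by rw [map_smul, hu', smul_eq_mul, mul_one]⟩)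
    rw [r1] at h1
    rw [r2] at h2
    omega
  obtain ⟨f0⟩ : Nonempty (↥(LinearMap.ker a) ≃ₗ[F] ↥(LinearMap.ker φ)) :=
    FiniteDimensional.nonempty_linearEquiv_of_finrank_eq hfr
  -- adjust so that `e ↦ u`
  have hek : e ∈ LinearMap.ker a := hae
  have huk : u ∈ LinearMap.ker φ := hφu
  have hne1 : f0 ⟨e, hek⟩ ≠ 0 := by
    intro h
    have := f0.injective (h.trans (map_zero f0).symm)
    exact he (congrArg Subtype.val this)
  have hne2 : (⟨u, huk⟩ : ↥(LinearMap.ker φ)) ≠ 0 := by
    intro h
    exact hu (congrArg Subtype.val h)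
  obtain ⟨g1, hg1⟩ := exists_equiv_apply_eq (F := F) hne1 hne2
  let f1 : ↥(LinearMap.ker a) ≃ₗ[F] ↥(LinearMap.ker φ) := f0.trans g1
  have hf1 : f1 ⟨e, hek⟩ = ⟨u, huk⟩ := hg1
  -- the projection onto `ker a` along `e'`
  have hmem : ∀ x, x - a x • e' ∈ LinearMap.ker a := by
    intro x
    show a (x - (a x) • e') = 0
    rw [map_sub, map_smul, he', smul_eq_mul, mul_one, sub_self]
  let pr : W →ₗ[F] ↥(LinearMap.ker a) :=
    LinearMap.codRestrict (LinearMap.ker a)
      (LinearMap.id - (LinearMap.toSpanSingleton F W e').comp a) hmem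
  have hpr : ∀ x, ((pr x : ↥(LinearMap.ker a)) : W) = x - a x • e' := fun x => rfl
  let gl : W →ₗ[F] W :=
    (LinearMap.ker φ).subtype.comp (f1.toLinearMap.comp pr) +
      (LinearMap.toSpanSingleton F W u').comp a
  have hgl : ∀ x, gl x = ((f1 (pr x) : ↥(LinearMap.ker φ)) : W) + a x • u' := fun x => rfl
  have hφf : ∀ y : ↥(LinearMap.ker φ), φ (y : W) = 0 := fun y => y.2
  have hφgl : ∀ x, φ (gl x) = a x := by
    intro x
    rw [hgl, map_add, map_smul, hu', smul_eq_mul, mul_one, hφf, zero_add]
  have hinj : Function.Injective gl := by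
    rw [← LinearMap.ker_eq_bot, LinearMap.ker_eq_bot']
    intro x hx
    have h1 : a x = 0 := by rw [← hφgl x, hx, map_zero]
    rw [hgl, h1, zero_smul, add_zero] at hx
    have h2 : f1 (pr x) = 0 := Subtype.ext hx
    have h3 : pr x = 0 := by
      apply f1.injective
      rw [h2, map_zero]
    have h4 := congrArg Subtype.val h3
    rw [hpr, h1, zero_smul, sub_zero] at h4
    exact h4
  let g : W ≃ₗ[F] W := LinearEquiv.ofInjectiveEndo gl hinj
  have hg : ∀ x, g x = gl x := fun x => rfl
  refine ⟨g, ?_, ?_⟩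
  · rw [hg, hgl]
    have : pr e = ⟨e, hek⟩ := by
      apply Subtype.ext
      rw [hpr, hae, zero_smul, sub_zero]
    rw [this, hf1, hae, zero_smul, add_zero]
  · intro x
    rw [hg]
    exact hφgl x

section char2
variable [CharP F 2]

/-- the functional `x ↦ polar f x u` -/
noncomputable def polarAt (f : QuadraticForm F W) (u : W) : Dual F W :=
  (QuadraticMap.polarBilin f).flip u

theorem polarAt_apply (f : QuadraticForm F W) (u x : W) : polarAt f u x = polar f x u := rfl

/-- base forms with prescribed invariants -/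
theorem exists_base [FiniteDimensional F W] (f : QuadraticForm F W) {e : W} (he : e ≠ 0)
    {u : W} (hu : ∃ x, polar f x u ≠ 0) (a : Dual F W) (ha : a ≠ 0) (hae : a e = 0) :
    ∃ f' ∈ orb f, f' e = f u ∧ ∀ x, polar f' x e = a x := by
  have hφ : polarAt f u ≠ 0 := by
    intro h
    obtain ⟨x, hx⟩ := hu
    apply hx
    rw [← polarAt_apply, h, LinearMap.zero_apply]
  have hφu : polarAt f u u = 0 := by rw [polarAt_apply, polar_self']
  have hu0 : u ≠ 0 := by
    rintro rfl
    obtain ⟨x, hx⟩ := hu
    apply hx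
    simp [polar]
  obtain ⟨g, hge, hg⟩ := exists_equiv_flag he hu0 ha hφ hae hφu
  refine ⟨f.comp (g : W →ₗ[F] W), ⟨g, rfl⟩, ?_, ?_⟩
  · rw [QuadraticMap.comp_apply, LinearEquiv.coe_coe, hge]
  · intro x
    rw [polar_comp, LinearEquiv.coe_coe, hge, ← polarAt_apply, hg]

/-- a form with nonzero polar form takes every nonzero value outside the radical -/
theorem exists_value [Finite F] (f : QuadraticForm F W) (hf : ∃ x y, polar f x y ≠ 0) {c : F}
    (hc : c ≠ 0) : ∃ u, f u = c ∧ ∃ x, polar f x u ≠ 0 := by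
  obtain ⟨u0, hu0, x0, hx0⟩ : ∃ u0, f u0 ≠ 0 ∧ ∃ x, polar f x u0 ≠ 0 := by
    by_contra hcon
    push Not at hcon
    obtain ⟨x0, y0, hxy⟩ := hf
    have h1 : f y0 = 0 := by
      by_contra h
      exact hxy (hcon y0 h x0)
    have h2 : f x0 = 0 := by
      by_contra h
      apply hxy
      rw [QuadraticMap.polar_comm]
      exact hcon x0 h y0
    have h3 : f (x0 + y0) = 0 := by
      by_contra h
      apply hxy
      have := hcon (x0 + y0) h x0
      rw [QuadraticMap.polar_add_right, polar_self', zero_add] at this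
      exact this
    rw [map_add', h1, h2, zero_add, zero_add] at h3
    exact hxy h3
  have hchar : ringChar F = 2 := ringChar.eq F 2
  obtain ⟨s, hs⟩ := FiniteField.isSquare_of_char_two hchar (c / f u0)
  have hs0 : s ≠ 0 := by
    rintro rfl
    rw [mul_zero] at hs
    exact (div_ne_zero hc hu0) hs
  refine ⟨s • u0, ?_, x0, ?_⟩
  · rw [QuadraticMap.map_smul, smul_eq_mul, ← hs]
    field_simp
  · rw [QuadraticMap.polar_smul_right, smul_eq_mul]
    exact mul_ne_zero hs0 hx0

/-- a form with trivial radical in dimension at least three has a nontrivial zero -/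
theorem exists_zero [Finite F] [FiniteDimensional F W] (f : QuadraticForm F W)
    (hn : 3 ≤ finrank F W) : ∃ u, u ≠ 0 ∧ f u = 0 := by
  have : Nontrivial W := Module.nontrivial_of_finrank_pos (R := F) (by omega)
  obtain ⟨u0, hu0⟩ := exists_ne (0 : W)
  by_cases h0 : f u0 = 0
  · exact ⟨u0, hu0, h0⟩
  set φ := polarAt f u0 with hφ
  have hker : 2 ≤ finrank F (LinearMap.ker φ) := by
    have h1 := LinearMap.finrank_range_add_finrank_ker φ
    have h2 : finrank F (LinearMap.range φ) ≤ 1 := by
      have := Submodule.finrank_le (LinearMap.range φ)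
      rwa [Module.finrank_self] at this
    omega
  have hlt : Submodule.span F {u0} < LinearMap.ker φ := by
    apply lt_of_le_of_ne
    · rw [Submodule.span_singleton_le_iff_mem]
      show φ u0 = 0
      rw [hφ, polarAt_apply, polar_self']
    · intro h
      rw [← h, finrank_span_singleton hu0] at hker
      omega
  obtain ⟨w, hw, hwn⟩ := SetLike.exists_of_lt hlt
  have hchar : ringChar F = 2 := ringChar.eq F 2
  obtain ⟨s, hs⟩ := FiniteField.isSquare_of_char_two hchar (f w / f u0)
  refine ⟨w + s • u0, ?_, ?_⟩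
  · intro h
    apply hwn
    have : w = (-s) • u0 := by
      rw [neg_smul]
      exact eq_neg_of_add_eq_zero_left h
    rw [this]
    exact Submodule.smul_mem _ _ (Submodule.mem_span_singleton_self u0)
  · have hw' : polar f w u0 = 0 := hw
    rw [map_add', QuadraticMap.map_smul, QuadraticMap.polar_smul_right, hw', smul_zero, add_zero,
      smul_eq_mul, ← hs]
    have : f w / f u0 * f u0 = f w := by field_simp
    rw [this]
    exact add_self' _

end char2

end Cfsg.Agent.Lib.Helper6.QFOrb
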