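import Mathlib
import Cfsg.Agent.Lib.Helper6.QFOrb.Base

set_option autoImplicit false
set_option linter.unusedSectionVars false
set_option linter.style.haveILetI false

/-!
Orbits of quadratic forms in characteristic two: counting the part of an orbit on which a fixed
vector `e` is not in the radical.
-/

namespace Cfsg.Agent.Lib.Helper6.QFOrb

open Module QuadraticMap

/-- a map with fibres of size at most two -/
theorem card_le_two_mul_ncard {α β : Type*} [Finite α] (Ψ : α → β) (t : α → α) (S : Set β)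
    (hS : S.Finite) (hΨ : ∀ x, Ψ x ∈ S) (hfib : ∀ x y, Ψ x = Ψ y → y = x ∨ y = t x) :
    Nat.card α ≤ 2 * S.ncard := by
  classical
  haveI : Fintype α := Fintype.ofFinite α
  have h1 : (Finset.univ : Finset α).card ≤ 2 * (Finset.univ.image Ψ).card := by
    apply Finset.card_le_mul_card_image
    intro b hb
    obtain ⟨x0, -, hx0⟩ := Finset.mem_image.1 hb
    have hsub : (Finset.univ.filter fun x => Ψ x = b) ⊆ {x0, t x0} := by
      intro y hy
      have hy' : Ψ y = b := (Finset.mem_filter.1 hy).2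
      rcases hfib x0 y (hx0.trans hy'.symm) with h | h
      · rw [h]; exact Finset.mem_insert_self _ _
      · rw [h]; exact Finset.mem_insert_of_mem (Finset.mem_singleton_self _)
    exact (Finset.card_le_card hsub).trans Finset.card_le_two
  have h2 : (Finset.univ.image Ψ).card ≤ S.ncard := by
    rw [← Set.ncard_coe_finset]
    apply Set.ncard_le_ncard _ hS
    intro b hb
    obtain ⟨x, -, rfl⟩ := Finset.mem_image.1 (Finset.mem_coe.1 hb)
    exact hΨ x
  rw [Nat.card_eq_fintype_card, ← Finset.card_univ]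
  omega

variable {F : Type*} [Field F] {W : Type*} [AddCommGroup W] [Module F W]

/-- the functionals vanishing at `e` -/
def ann (e : W) : Submodule F (Dual F W) := (Submodule.span F {e}).dualAnnihilator

theorem mem_ann {e : W} {σ : Dual F W} : σ ∈ ann e ↔ σ e = 0 := by
  unfold ann
  rw [Submodule.mem_dualAnnihilator]
  constructor
  · intro h
    exact h e (Submodule.mem_span_singleton_self e)
  · intro h w hw
    obtain ⟨c, rfl⟩ := Submodule.mem_span_singleton.1 hw
    rw [map_smul, h, smul_zero]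

/-- the part of the orbit on which `e` is not in the radical -/
def nonrad (f : QuadraticForm F W) (e : W) : Set (QuadraticForm F W) :=
  {f' | f' ∈ orb f ∧ ∃ x, polar f' x e ≠ 0}

/-- the part of the orbit on which `e` is in the radical -/
def radp (f : QuadraticForm F W) (e : W) : Set (QuadraticForm F W) :=
  {f' | f' ∈ orb f ∧ ∀ x, polar f' x e = 0}

section main
variable [Fintype F] [CharP F 2] [Finite W]

theorem nonrad_ge (f : QuadraticForm F W) (hf : ∃ x y, polar f x y ≠ 0) {e : W} (he : e ≠ 0)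
    (Z : Prop) (hZ : Z → ∃ u, f u = 0 ∧ ∃ x, polar f x u ≠ 0) :
    Nat.card ({c : F // c ≠ 0} × {a : ann (F := F) e // a ≠ 0} × ann (F := F) e) +
      Nat.card {_x : {a : ann (F := F) e // a ≠ 0} × ann (F := F) e × Bool // Z} ≤
      2 * (nonrad f e).ncard := by
  classical
  haveI : FiniteDimensional F W := Module.Finite.of_finite
  haveI : Finite (QuadraticForm F W) := DFunLike.finite _
  haveI : Finite (Dual F W) := DFunLike.finite _
  -- base forms
  have hb : ∀ c : F, (c ≠ 0 ∨ Z) → ∀ a : ann (F := F) e, a ≠ 0 →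
      ∃ f' : QuadraticForm F W, f' ∈ orb f ∧ f' e = c ∧ ∀ x, polar f' x e = a.1 x := by
    intro c hc a ha
    have hu : ∃ u, f u = c ∧ ∃ x, polar f x u ≠ 0 := by
      by_cases hc0 : c = 0
      · rcases hc with h | h
        · exact absurd hc0 h
        · rw [hc0]; exact hZ h
      · exact exists_value f hf hc0
    obtain ⟨u, hfu, hu⟩ := hu
    have ha' : a.1 ≠ 0 := fun h => ha (Subtype.ext h)
    obtain ⟨f', hf', h1, h2⟩ := exists_base f he hu a.1 ha' (mem_ann.1 a.2)
    exact ⟨f', hf', h1.trans hfu, h2⟩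
  choose! base hbase using hb
  -- the index type and the map
  let α1 := {c : F // c ≠ 0} × {a : ann (F := F) e // a ≠ 0} × ann (F := F) e
  let α0 := {_x : {a : ann (F := F) e // a ≠ 0} × ann (F := F) e × Bool // Z}
  let Ψ : α1 ⊕ α0 → QuadraticForm F W := fun p =>
    match p with
    | Sum.inl x => (base x.1.1 x.2.1.1).comp
        (shear (e := e) x.2.2.1 (mem_ann.1 x.2.2.2) : W →ₗ[F] W)
    | Sum.inr y => (base 0 y.1.1.1).comp
        (shear (e := e) y.1.2.1.1 (mem_ann.1 y.1.2.1.2) : W →ₗ[F] W)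
  let t : α1 ⊕ α0 → α1 ⊕ α0 := fun p =>
    match p with
    | Sum.inl x => Sum.inl (x.1, x.2.1, x.2.2 + (x.1.1)⁻¹ • x.2.1.1)
    | Sum.inr y => Sum.inr ⟨(y.1.1, y.1.2.1, !y.1.2.2), y.2⟩
  -- invariants of `Ψ`
  have hΨ1 : ∀ x : α1, Ψ (Sum.inl x) ∈ orb f ∧ Ψ (Sum.inl x) e = x.1.1 ∧
      ∀ w, polar (Ψ (Sum.inl x)) w e = x.2.1.1.1 w := by
    intro x
    obtain ⟨h1, h2, h3⟩ := hbase x.1.1 (Or.inl x.1.2) x.2.1.1 x.2.1.2
    refine ⟨comp_mem_orb h1 _, ?_, ?_⟩
    · show (base x.1.1 x.2.1.1).comp (shear (e := e) x.2.2.1 (mem_ann.1 x.2.2.2) : W →ₗ[F] W) e = _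
      rw [comp_shear_self, h2]
    · intro w
      show polar ((base x.1.1 x.2.1.1).comp
        (shear (e := e) x.2.2.1 (mem_ann.1 x.2.2.2) : W →ₗ[F] W)) w e = _
      rw [polar_comp_shear, h3]
  have hΨ0 : ∀ y : α0, Ψ (Sum.inr y) ∈ orb f ∧ Ψ (Sum.inr y) e = 0 ∧
      ∀ w, polar (Ψ (Sum.inr y)) w e = y.1.1.1.1 w := by
    intro y
    obtain ⟨h1, h2, h3⟩ := hbase 0 (Or.inr y.2) y.1.1.1 y.1.1.2
    refine ⟨comp_mem_orb h1 _, ?_, ?_⟩
    · show (base 0 y.1.1.1).comp
        (shear (e := e) y.1.2.1.1 (mem_ann.1 y.1.2.1.2) : W →ₗ[F] W) e = _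
      rw [comp_shear_self, h2]
    · intro w
      show polar ((base 0 y.1.1.1).comp
        (shear (e := e) y.1.2.1.1 (mem_ann.1 y.1.2.1.2) : W →ₗ[F] W)) w e = _
      rw [polar_comp_shear, h3]
  have hcard : Nat.card (α1 ⊕ α0) = Nat.card α1 + Nat.card α0 := by
    haveI : Fintype α1 := Fintype.ofFinite _
    haveI : Fintype α0 := Fintype.ofFinite _
    rw [Nat.card_eq_fintype_card, Fintype.card_sum, Nat.card_eq_fintype_card,
      Nat.card_eq_fintype_card]
  rw [← hcard]
  apply card_le_two_mul_ncard Ψ t (nonrad f e) (Set.toFinite _)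
  · -- the image lies in `nonrad`
    rintro (x | y)
    · obtain ⟨h1, -, h3⟩ := hΨ1 x
      refine ⟨h1, ?_⟩
      have hne : x.2.1.1.1 ≠ 0 := fun h => x.2.1.2 (Subtype.ext h)
      by_contra hcon
      push Not at hcon
      apply hne
      ext w
      rw [← h3, hcon, LinearMap.zero_apply]
    · obtain ⟨h1, -, h3⟩ := hΨ0 y
      refine ⟨h1, ?_⟩
      have hne : y.1.1.1.1 ≠ 0 := fun h => y.1.1.2 (Subtype.ext h)
      by_contra hcon
      push Not at hcon
      apply hne
      ext w
      rw [← h3, hcon, LinearMap.zero_apply]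
  · -- the fibres
    rintro (⟨c, a, σ⟩ | ⟨⟨a, σ, b⟩, hz⟩) (⟨c', a', σ'⟩ | ⟨⟨a', σ', b'⟩, hz'⟩) hxy
    · -- both with `c ≠ 0`
      obtain ⟨-, h2, h3⟩ := hΨ1 (c, a, σ)
      obtain ⟨-, h2', h3'⟩ := hΨ1 (c', a', σ')
      have hc : c' = c := by
        apply Subtype.ext
        rw [← h2, ← h2', hxy]
      have ha : a' = a := by
        apply Subtype.ext
        apply Subtype.ext
        ext w
        rw [← h3, ← h3', hxy]
      subst hc
      subst ha
      obtain ⟨hb1, hb2, hb3⟩ := hbase c'.1 (Or.inl c'.2) a'.1 a'.2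
      have hne : a'.1.1 ≠ 0 := fun h => a'.2 (Subtype.ext h)
      have hxy' : (base c'.1 a'.1).comp
          (shear (e := e) σ.1 (mem_ann.1 σ.2) : W →ₗ[F] W) =
          (base c'.1 a'.1).comp
          (shear (e := e) σ'.1 (mem_ann.1 σ'.2) : W →ₗ[F] W) := hxy
      rcases comp_shear_eq_iff (base c'.1 a'.1) a'.1.1 hb3 hne σ.1 σ'.1
        (mem_ann.1 σ.2) (mem_ann.1 σ'.2) hxy' with h | ⟨-, h⟩
      · left
        have : σ' = σ := Subtype.ext h
        rw [this]
      · right
        have : σ' = σ + (c'.1)⁻¹ • a'.1 := by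
          apply Subtype.ext
          rw [h, hb2]
          rfl
        rw [this]
    · exfalso
      obtain ⟨-, h2, -⟩ := hΨ1 (c, a, σ)
      obtain ⟨-, h2', -⟩ := hΨ0 ⟨(a', σ', b'), hz'⟩
      apply c.2
      rw [← h2, hxy, h2']
    · exfalso
      obtain ⟨-, h2, -⟩ := hΨ0 ⟨(a, σ, b), hz⟩
      obtain ⟨-, h2', -⟩ := hΨ1 (c', a', σ')
      apply c'.2
      rw [← h2', ← hxy, h2]
    · obtain ⟨-, h2, h3⟩ := hΨ0 ⟨(a, σ, b), hz⟩
      obtain ⟨-, h2', h3'⟩ := hΨ0 ⟨(a', σ', b'), hz'⟩
      have ha : a' = a := by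
        apply Subtype.ext
        apply Subtype.ext
        ext w
        rw [← h3, ← h3', hxy]
      subst ha
      obtain ⟨hb1, hb2, hb3⟩ := hbase 0 (Or.inr hz) a'.1 a'.2
      have hne : a'.1.1 ≠ 0 := fun h => a'.2 (Subtype.ext h)
      have hxy' : (base 0 a'.1).comp
          (shear (e := e) σ.1 (mem_ann.1 σ.2) : W →ₗ[F] W) =
          (base 0 a'.1).comp
          (shear (e := e) σ'.1 (mem_ann.1 σ'.2) : W →ₗ[F] W) := hxy
      have hσ : σ' = σ := by
        rcases comp_shear_eq_iff (base 0 a'.1) a'.1.1 hb3 hne σ.1 σ'.1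
          (mem_ann.1 σ.2) (mem_ann.1 σ'.2) hxy' with h | ⟨h, -⟩
        · exact Subtype.ext h
        · exact absurd hb2 h
      subst hσ
      by_cases hbb : b' = b
      · left
        rw [hbb]
      · right
        have : b' = !b := by
          cases b <;> cases b' <;> simp_all
        rw [this]

theorem card_ann {e : W} (he : e ≠ 0) :
    Nat.card (ann (F := F) e) = Fintype.card F ^ (finrank F W - 1) := by
  classical
  haveI : FiniteDimensional F W := Module.Finite.of_finite
  haveI : Finite (Dual F W) := DFunLike.finite _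
  haveI : Fintype (ann (F := F) e) := Fintype.ofFinite _
  have h1 := Subspace.finrank_add_finrank_dualAnnihilator_eq (Submodule.span F {e})
  rw [finrank_span_singleton he] at h1
  have h2 : finrank F (ann (F := F) e) = finrank F W - 1 := by
    unfold ann
    omega
  rw [Nat.card_eq_fintype_card, card_eq_pow_finrank (K := F) (V := ann (F := F) e), h2]

theorem card_ne_zero_sub {α : Type*} [Zero α] [Finite α] :
    Nat.card {a : α // a ≠ 0} = Nat.card α - 1 := by
  classical
  haveI : Fintype α := Fintype.ofFinite α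
  rw [Nat.card_eq_fintype_card, Nat.card_eq_fintype_card, Fintype.card_subtype_compl,
    Fintype.card_subtype_eq]

end main

end Cfsg.Agent.Lib.Helper6.QFOrb
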