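import Mathlib
import Cfsg.Agent.Lib.Helper6.QFOrb.Count

set_option autoImplicit false
set_option linter.unusedSectionVars false
set_option linter.style.haveILetI false

/-!
Orbits of quadratic forms in characteristic two: the part of an orbit on which a fixed vector
`e` lies in the radical surjects onto an orbit on a complement of `e`.
-/

namespace Cfsg.Agent.Lib.Helper6.QFOrb

open Module QuadraticMap

variable {F : Type*} [Field F] {W : Type*} [AddCommGroup W] [Module F W]

theorem polar_comp' {W' : Type*} [AddCommGroup W'] [Module F W'] (f : QuadraticForm F W)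
    (g : W' →ₗ[F] W) (x y : W') : polar (f.comp g) x y = polar f (g x) (g y) := by
  simp [polar, QuadraticMap.comp_apply]

section main
variable [Fintype F] [CharP F 2] [Finite W]

theorem radp_ge (f : QuadraticForm F W) (hf : ∃ x y, polar f x y ≠ 0) {e : W} (he : e ≠ 0)
    (hrad : ∃ r, r ≠ 0 ∧ ∀ x, polar f x r = 0) :
    ∃ (W1 : Submodule F W) (f1 : QuadraticForm F W1), finrank F W1 + 1 = finrank F W ∧
      (∃ x y, polar f1 x y ≠ 0) ∧ (orb f1).ncard ≤ (radp f e).ncard := by
  classical
  haveI : FiniteDimensional F W := Module.Finite.of_finite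
  haveI : Finite (QuadraticForm F W) := DFunLike.finite _
  obtain ⟨r, hr0, hr⟩ := hrad
  obtain ⟨g0, hg0⟩ := exists_equiv_apply_eq (F := F) he hr0
  set f0 : QuadraticForm F W := f.comp (g0 : W →ₗ[F] W) with hf0
  have hf0orb : f0 ∈ orb f := ⟨g0, rfl⟩
  have hf0e : ∀ x, polar f0 x e = 0 := by
    intro x
    rw [hf0, polar_comp, LinearEquiv.coe_coe, hg0, hr]
  have hf0e' : ∀ x, polar f0 e x = 0 := by
    intro x
    rw [QuadraticMap.polar_comm, hf0e]
  obtain ⟨W1, hc⟩ := Submodule.exists_isCompl (Submodule.span F {e})
  have hdim : finrank F W1 + 1 = finrank F W := by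
    have := Submodule.finrank_add_eq_of_isCompl hc
    rw [finrank_span_singleton he] at this
    omega
  have hdec : ∀ x : W, ∃ (c : F) (z : W1), x = c • e + (z : W) := by
    intro x
    have hx : x ∈ Submodule.span F {e} ⊔ W1 := by
      rw [hc.sup_eq_top]
      exact Submodule.mem_top
    obtain ⟨y, hy, z, hz, rfl⟩ := Submodule.mem_sup.1 hx
    obtain ⟨c, rfl⟩ := Submodule.mem_span_singleton.1 hy
    exact ⟨c, ⟨z, hz⟩, rfl⟩
  set f1 : QuadraticForm F W1 := f0.comp W1.subtype with hf1
  refine ⟨W1, f1, hdim, ?_, ?_⟩
  · -- the polar form of `f1` is not zero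
    by_contra hcon
    push Not at hcon
    obtain ⟨x, y, hxy⟩ := hf
    apply hxy
    have h0 : ∀ x y, polar f0 x y = 0 := by
      intro x y
      obtain ⟨c, z, rfl⟩ := hdec x
      obtain ⟨d, w, rfl⟩ := hdec y
      rw [QuadraticMap.polar_add_left, QuadraticMap.polar_smul_left, hf0e', smul_zero, zero_add,
        QuadraticMap.polar_add_right, QuadraticMap.polar_smul_right, hf0e, smul_zero, zero_add]
      have := hcon z w
      rw [hf1, polar_comp'] at this
      exact this
    have := h0 (g0.symm x) (g0.symm y)
    rw [hf0, polar_comp, LinearEquiv.coe_coe, LinearEquiv.apply_symm_apply,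
      LinearEquiv.apply_symm_apply] at this
    exact this
  · -- restriction maps `radp` onto a superset of `orb f1`
    have hsub : orb f1 ⊆ (fun f' : QuadraticForm F W => f'.comp W1.subtype) '' (radp f e) := by
      rintro f2 ⟨h, rfl⟩
      -- extend `h` by the identity on `span {e}`
      let P := Submodule.prodEquivOfIsCompl _ _ hc
      let hh : W ≃ₗ[F] W :=
        (P.symm.trans (LinearEquiv.prodCongr (LinearEquiv.refl F _) h)).trans P
      have hhz : ∀ z : W1, hh (z : W) = (h z : W) := by
        intro z
        have h1 : P.symm (z : W) = (0, z) := by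
          rw [LinearEquiv.symm_apply_eq]
          simp [P]
        show P ((LinearEquiv.prodCongr (LinearEquiv.refl F _) h) (P.symm (z : W))) = _
        rw [h1]
        simp [P]
      have hhe : hh e = e := by
        have hem : e ∈ Submodule.span F {e} := Submodule.mem_span_singleton_self e
        have h1 : P.symm e = (⟨e, hem⟩, 0) := by
          rw [LinearEquiv.symm_apply_eq]
          simp [P]
        show P ((LinearEquiv.prodCongr (LinearEquiv.refl F _) h) (P.symm e)) = _
        rw [h1]
        simp [P]
      refine ⟨f0.comp (hh : W →ₗ[F] W), ⟨comp_mem_orb hf0orb hh, ?_⟩, ?_⟩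
      · intro x
        rw [polar_comp, LinearEquiv.coe_coe, hhe, hf0e]
      · ext z
        show f0 (hh (z : W)) = f1 (h z)
        rw [hhz]
        rfl
    calc (orb f1).ncard
        ≤ ((fun f' : QuadraticForm F W => f'.comp W1.subtype) '' (radp f e)).ncard :=
          Set.ncard_le_ncard hsub (Set.toFinite _)
      _ ≤ (radp f e).ncard := Set.ncard_image_le (Set.toFinite _)

end main

end Cfsg.Agent.Lib.Helper6.QFOrb
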