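import Mathlib
import Cfsg.Agent.Lib.Helper6.QFOrb.Rad

set_option autoImplicit false
set_option linter.unusedSectionVars false
set_option linter.style.haveILetI false

/-!
Orbits of quadratic forms in characteristic two: every `GL(W)`-orbit of a quadratic form with
nonzero polar form on an `n`-dimensional space over a field with `q` elements (`q` even) has at
least `(q^n - 1)(q^n - q) / (2 (q + 1))` elements.
-/

namespace Cfsg.Agent.Lib.Helper6.QFOrb

open Module QuadraticMap

variable {F : Type*} [Field F] {W : Type*} [AddCommGroup W] [Module F W]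

theorem orb_eq_union (f : QuadraticForm F W) (e : W) : orb f = radp f e ∪ nonrad f e := by
  ext f'
  constructor
  · intro h
    by_cases hx : ∃ x, polar f' x e ≠ 0
    · exact Or.inr ⟨h, hx⟩
    · push Not at hx
      exact Or.inl ⟨h, hx⟩
  · rintro (h | h)
    · exact h.1
    · exact h.1

theorem disjoint_radp_nonrad (f : QuadraticForm F W) (e : W) :
    Disjoint (radp f e) (nonrad f e) := by
  rw [Set.disjoint_left]
  rintro f' ⟨-, h1⟩ ⟨-, x, hx⟩
  exact hx (h1 x)

section main
variable [Fintype F] [CharP F 2]

theorem two_le_finrank [FiniteDimensional F W] (f : QuadraticForm F W)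
    (hf : ∃ x y, polar f x y ≠ 0) : 2 ≤ finrank F W := by
  obtain ⟨x, y, hxy⟩ := hf
  have hli : LinearIndependent F ![x, y] := by
    rw [LinearIndependent.pair_iff]
    intro s t hst
    have h1 : polar f (s • x + t • y) y = 0 := by
      rw [hst]; simp [polar]
    have h2 : polar f x (s • x + t • y) = 0 := by
      rw [hst]; simp [polar]
    rw [QuadraticMap.polar_add_left, QuadraticMap.polar_smul_left, QuadraticMap.polar_smul_left,
      polar_self', smul_zero, add_zero, smul_eq_mul] at h1
    rw [QuadraticMap.polar_add_right, QuadraticMap.polar_smul_right, QuadraticMap.polar_smul_right,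
      polar_self', smul_zero, zero_add, smul_eq_mul] at h2
    constructor
    · rcases mul_eq_zero.1 h1 with h | h
      · exact h
      · exact absurd h hxy
    · rcases mul_eq_zero.1 h2 with h | h
      · exact h
      · exact absurd h hxy
  have := hli.fintype_card_le_finrank
  simpa using this

theorem orbit_bound_aux (n : ℕ) : ∀ (W : Type*) [AddCommGroup W] [Module F W] [Finite W],
    finrank F W = n → ∀ f : QuadraticForm F W, (∃ x y, polar f x y ≠ 0) →
    (Fintype.card F ^ n - 1) * (Fintype.card F ^ n - Fintype.card F) ≤
      2 * (Fintype.card F + 1) * (orb f).ncard := by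
  induction n with
  | zero =>
    intro W _ _ _ hn f hf
    haveI : FiniteDimensional F W := Module.Finite.of_finite
    have := two_le_finrank f hf
    omega
  | succ m ih =>
    intro W _ _ _ hn f hf
    classical
    haveI : FiniteDimensional F W := Module.Finite.of_finite
    haveI : Finite (QuadraticForm F W) := DFunLike.finite _
    haveI : Finite (Dual F W) := DFunLike.finite _
    have h2 := two_le_finrank f hf
    have hm1 : 1 ≤ m := by omega
    set q := Fintype.card F with hq
    have hq2 : 2 ≤ q := Fintype.one_lt_card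
    obtain ⟨x0, y0, hxy⟩ := hf
    have he : x0 ≠ 0 := by
      rintro rfl
      apply hxy
      simp [polar]
    have hf' : ∃ x y, polar f x y ≠ 0 := ⟨x0, y0, hxy⟩
    -- split the orbit
    have hsplit : (orb f).ncard = (radp f x0).ncard + (nonrad f x0).ncard := by
      rw [orb_eq_union f x0]
      exact Set.ncard_union_eq (disjoint_radp_nonrad f x0) (Set.toFinite _) (Set.toFinite _)
    -- cardinalities of the index sets
    have hann : Nat.card (ann (F := F) x0) = q ^ m := by
      rw [card_ann he, hn, Nat.add_sub_cancel]
    have hann0 : Nat.card {a : ann (F := F) x0 // a ≠ 0} = q ^ m - 1 := by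
      rw [card_ne_zero_sub, hann]
    have hF0 : Nat.card {c : F // c ≠ 0} = q - 1 := by
      rw [card_ne_zero_sub, Nat.card_eq_fintype_card]
    have hα1 : Nat.card ({c : F // c ≠ 0} × {a : ann (F := F) x0 // a ≠ 0} × ann (F := F) x0) =
        (q - 1) * ((q ^ m - 1) * q ^ m) := by
      rw [Nat.card_prod, Nat.card_prod, hF0, hann0, hann]
    have hQ : q ≤ q ^ m := by
      calc q = q ^ 1 := (pow_one q).symm
        _ ≤ q ^ m := Nat.pow_le_pow_right (by omega) hm1
    have hpow : q ^ (m + 1) = q * q ^ m := by rw [pow_succ]; ring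
    rw [hpow, hsplit]
    set Q := q ^ m with hQdef
    by_cases hrad : ∃ r, r ≠ 0 ∧ ∀ x, polar f x r = 0
    · -- nontrivial radical: induction
      obtain ⟨W1, f1, hdim, hf1, hle⟩ := radp_ge f hf' he hrad
      have hW1 : finrank F W1 = m := by omega
      have hih := ih W1 hW1 f1 hf1
      have hnr := nonrad_ge f hf' he False (fun h => h.elim)
      have hemp : Nat.card {_x : {a : ann (F := F) x0 // a ≠ 0} × ann (F := F) x0 × Bool // False} = 0 := by
        rw [Nat.card_eq_zero]
        left
        exact ⟨fun x => x.2⟩
      rw [hα1, hemp, add_zero] at hnr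
      -- arithmetic
      have h1 : (Q - 1) * (Q - q) ≤ 2 * (q + 1) * (radp f x0).ncard :=
        hih.trans (Nat.mul_le_mul_left _ hle)
      have hQ1 : 1 ≤ Q := by omega
      have hqQ : q ≤ q * Q := Nat.le_mul_of_pos_right q (by omega)
      have hqQ1 : 1 ≤ q * Q := by omega
      zify [hQ1, hQ, hqQ, hqQ1, (by omega : 1 ≤ q)] at h1 hnr ⊢
      nlinarith [h1, hnr]
    · push Not at hrad
      by_cases hm : m = 1
      · -- dimension two
        have hnr := nonrad_ge f hf' he False (fun h => h.elim)
        have hemp : Nat.card {_x : {a : ann (F := F) x0 // a ≠ 0} × ann (F := F) x0 × Bool // False} = 0 := by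
          rw [Nat.card_eq_zero]
          left
          exact ⟨fun x => x.2⟩
        rw [hα1, hemp, add_zero] at hnr
        have hQq : Q = q := by rw [hQdef, hm, pow_one]
        rw [hQq] at hnr ⊢
        have hqq : q ≤ q * q := Nat.le_mul_of_pos_right q (by omega)
        have hqq1 : 1 ≤ q * q := by nlinarith
        zify [hqq, hqq1, (by omega : 1 ≤ q)] at hnr ⊢
        nlinarith [hnr, Int.natCast_nonneg (radp f x0).ncard]
      · -- dimension at least three: there is a zero
        have hn3 : 3 ≤ finrank F W := by omega
        obtain ⟨u, hu0, hfu⟩ := exists_zero f hn3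
        have hZ : True → ∃ u, f u = 0 ∧ ∃ x, polar f x u ≠ 0 := by
          intro _
          obtain ⟨x, hx⟩ := hrad u hu0
          exact ⟨u, hfu, x, hx⟩
        have hnr := nonrad_ge f hf' he True hZ
        have hα0 : Nat.card {_x : {a : ann (F := F) x0 // a ≠ 0} × ann (F := F) x0 × Bool // True} =
            (Q - 1) * (Q * 2) := by
          rw [Nat.card_congr (Equiv.subtypeUnivEquiv (fun _ => trivial)), Nat.card_prod,
            Nat.card_prod, hann0, hann]
          simp
        rw [hα1, hα0] at hnr
        have hQ1 : 1 ≤ Q := by omega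
        have hqQ : q ≤ q * Q := Nat.le_mul_of_pos_right q (by omega)
        have hqQ1 : 1 ≤ q * Q := by omega
        zify [hQ1, hQ, hqQ, hqQ1, (by omega : 1 ≤ q)] at hnr ⊢
        have hQq : (q : ℤ) ≤ Q := by exact_mod_cast hQ
        have hq2' : (2 : ℤ) ≤ q := by exact_mod_cast hq2
        nlinarith [hnr, Int.natCast_nonneg (radp f x0).ncard, mul_nonneg (sub_nonneg.2 hQq) (sub_nonneg.2 hq2')]

/-- **the orbit bound** -/
theorem orbit_bound [Finite W] (f : QuadraticForm F W) (hf : ∃ x y, polar f x y ≠ 0) :
    (Fintype.card F ^ finrank F W - 1) * (Fintype.card F ^ finrank F W - Fintype.card F) ≤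
      2 * (Fintype.card F + 1) * Nat.card (orb f) := by
  rw [Nat.card_coe_set_eq]
  exact orbit_bound_aux (finrank F W) W rfl f hf

end main

end Cfsg.Agent.Lib.Helper6.QFOrb
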